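import Mathlib
import Cfsg.Prelude.Def_GeometricClasses

set_option autoImplicit false

/-!
# Project C6P (S6000; designer helper10, co-designer of PART S helper29).  Definitions of PART S:
the standard Pauli matrices on `F^4 = F^2 ⊗ F^2` (index `ab ↔ 2a + b`): `pD1 = Z ⊗ 1`, `pX1 = X ⊗ 1`, `pD2 = 1 ⊗ Z`, `pX2 = 1 ⊗ X`,
the Pauli words `pauliM i a b c d e = i^a • (pD1^b * pX1^c * pD2^d * pX2^e)`, and the relations `PauliRel`.
-/

namespace Cfsg.Agent.Lib.Helper10.C6P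

variable {F : Type*} [Field F]

/-- `Z ⊗ 1 = diag(1, 1, -1, -1)` -/
def pD1 : Matrix (Fin 4) (Fin 4) F := Matrix.diagonal ![1, 1, -1, -1]

/-- `X ⊗ 1` = the permutation matrix of `(0 2)(1 3)` -/
def pX1 : Matrix (Fin 4) (Fin 4) F := !![0, 0, 1, 0; 0, 0, 0, 1; 1, 0, 0, 0; 0, 1, 0, 0]

/-- `1 ⊗ Z = diag(1, -1, 1, -1)` -/
def pD2 : Matrix (Fin 4) (Fin 4) F := Matrix.diagonal ![1, -1, 1, -1]

/-- `1 ⊗ X` = the permutation matrix of `(0 1)(2 3)` -/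
def pX2 : Matrix (Fin 4) (Fin 4) F := !![0, 1, 0, 0; 1, 0, 0, 0; 0, 0, 0, 1; 0, 0, 1, 0]

/-- the Pauli word `i^a • (Z₁^b X₁^c Z₂^d X₂^e)` -/
def pauliM (i : F) (a b c d e : ℕ) : Matrix (Fin 4) (Fin 4) F :=
  i ^ a • ((pD1 : Matrix (Fin 4) (Fin 4) F) ^ b * pX1 ^ c * pD2 ^ d * pX2 ^ e)

/-- the defining relations of a symplectic basis of `4 ∘ 2^(1+4)` modulo its centre, with all four generators involutions -/
structure PauliRel (G1 H1 G2 H2 : Matrix (Fin 4) (Fin 4) F) : Prop where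
  g1sq : G1 * G1 = 1
  h1sq : H1 * H1 = 1
  g2sq : G2 * G2 = 1
  h2sq : H2 * H2 = 1
  a1 : G1 * H1 = -(H1 * G1)
  a2 : G2 * H2 = -(H2 * G2)
  c12 : G1 * G2 = G2 * G1
  c1h2 : G1 * H2 = H2 * G1
  ch12 : H1 * G2 = G2 * H1
  chh : H1 * H2 = H2 * H1

end Cfsg.Agent.Lib.Helper10.C6P
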